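import Mathlib.Algebra.Category.Grp.FilteredColimits
import Mathlib.Algebra.Category.Grp.Colimits
import Mathlib.Algebra.Module.CharacterModule
import Mathlib.CategoryTheory.Limits.ConcreteCategory.Basic
import Mathlib.CategoryTheory.Limits.Preserves.Filtered

/-!
Filtered colimits of abelian groups indexed by a category of arbitrary size: representatives and the
kernel criterion.
-/

set_option linter.style.haveILetI false

universe w v

open CategoryTheory CategoryTheory.Limits

namespace GrothLib.AbColim

variable {J : Type v} [SmallCategory J] [IsFiltered J] {F : J ⥤ AddCommGrpCat.{w}} {c : Cocone F}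

/-- A character of an abelian group as a morphism in universe `w`. -/
noncomputable def charHom {A : AddCommGrpCat.{w}} {B : Type*} [AddCommGroup B] (f : A →+ B)
    (χ : B →+ AddCircle (1 : ℚ)) : A ⟶ AddCommGrpCat.of (ULift.{w} (AddCircle (1 : ℚ))) :=
  AddCommGrpCat.ofHom (AddEquiv.ulift.symm.toAddMonoidHom.comp (χ.comp f))

theorem exists_rep (hc : IsColimit c) (x : (c.pt : AddCommGrpCat.{w})) :
    ∃ (j : J) (y : F.obj j), c.ι.app j y = x := by
  let H : AddSubgroup c.pt :=
    { carrier := {x | ∃ (j : J) (y : F.obj j), c.ι.app j y = x}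
      zero_mem' := ⟨(IsFiltered.nonempty (C := J)).some, 0, map_zero _⟩
      add_mem' := by
        rintro _ _ ⟨j, y, rfl⟩ ⟨k, z, rfl⟩
        refine ⟨IsFiltered.max j k, F.map (IsFiltered.leftToMax j k) y + F.map (IsFiltered.rightToMax j k) z, ?_⟩
        rw [map_add, ← CategoryTheory.comp_apply, ← CategoryTheory.comp_apply, c.w, c.w]
      neg_mem' := by
        rintro _ ⟨j, y, rfl⟩
        exact ⟨j, -y, map_neg _ _⟩ }
  by_contra hx
  have hne : QuotientAddGroup.mk' H x ≠ 0 := fun h => hx ((QuotientAddGroup.eq_zero_iff x).mp h)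
  obtain ⟨χ, hχ⟩ := CharacterModule.exists_character_apply_ne_zero_of_ne_zero hne
  have h0 : charHom (A := c.pt) (QuotientAddGroup.mk' H) χ = 0 := hc.hom_ext fun j => by
    ext y
    show χ (QuotientAddGroup.mk' H (c.ι.app j y)) = _
    rw [show QuotientAddGroup.mk' H (c.ι.app j y) = 0 from
      (QuotientAddGroup.eq_zero_iff _).mpr ⟨j, y, rfl⟩, map_zero]
    rfl
  exact hχ (congrArg ULift.down congr($h0 x))

theorem exists_map_eq_zero (hc : IsColimit c) {j : J} (x : F.obj j) (hx : c.ι.app j x = 0) :
    ∃ (k : J) (f : j ⟶ k), F.map f x = 0 := by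
  let F' : J ⥤ AddCommGrpCat.{max w v} := F ⋙ AddCommGrpCat.uliftFunctor.{v, w}
  haveI : PreservesFilteredColimitsOfSize.{v, v} (forget AddCommGrpCat.{max w v}) :=
    preservesFilteredColimitsOfSize_shrink.{v, max w v, v, max w v} _
  let c' := colimit.cocone F'
  have hzero : c'.ι.app j (ULift.up x) = 0 := by
    by_contra hne
    obtain ⟨χ, hχ⟩ := CharacterModule.exists_character_apply_ne_zero_of_ne_zero hne
    let s : Cocone F :=
      { pt := AddCommGrpCat.of (ULift.{w} (AddCircle (1 : ℚ)))
        ι :=
          { app := fun k => charHom (A := F.obj k)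
              ((c'.ι.app k).hom.comp AddEquiv.ulift.symm.toAddMonoidHom) χ
            naturality := fun k l f => by
              ext y
              show ULift.up (χ (c'.ι.app l (ULift.up (F.map f y)))) = ULift.up (χ (c'.ι.app k (ULift.up y)))
              exact congrArg (fun z => ULift.up (χ z)) congr($(c'.w f) (ULift.up y)) } }
    have h := congr($(hc.fac s j) x)
    rw [CategoryTheory.comp_apply, hx, map_zero] at h
    exact hχ (congrArg ULift.down h).symm
  obtain ⟨k, f, g, hfg⟩ := Concrete.isColimit_exists_of_rep_eq F' (colimit.isColimit F')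
    (ULift.up x) (0 : F'.obj j) (hzero.trans (map_zero _).symm)
  exact ⟨k, f, (congrArg ULift.down (hfg.trans (map_zero (F'.map g).hom)))⟩

end GrothLib.AbColim
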