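import Groth.Agent.Lib.DeltaF.Basic
import Groth.Agent.Lib.DeltaF.AbColim
import Mathlib.Algebra.Category.Grp.Abelian
import Mathlib.Algebra.Category.Grp.EpiMono
import Mathlib.Algebra.Homology.ShortComplex.Ab

/-!
Comparison of delta-functors with values in abelian groups along monomorphisms, elementwise.
-/

set_option linter.style.haveILetI false

universe w v u

open CategoryTheory CategoryTheory.Limits

namespace GrothLib.DeltaF

open _root_.DeltaF

variable {C : Type u} [Category.{v} C] [Abelian C]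
variable {T T' : CohDeltaFunctor C AddCommGrpCat.{w} ℕ} (φ : T ⟶ T')

/-- The component of a morphism of delta-functors on elements. -/
theorem app_natural (q : ℕ) {X Y : C} (f : X ⟶ Y) (x : (T.F q).obj X) :
    (φ.app q).app Y ((T.F q).map f x) = (T'.F q).map f ((φ.app q).app X x) :=
  congr($((φ.app q).naturality f) x)

theorem app_δ (S : ShortComplex C) (hS : S.ShortExact) (q : ℕ) (x : (T.F q).obj S.X₃) :
    (φ.app (q + 1)).app S.X₁ (T.δ S hS q (q + 1) rfl x) = T'.δ S hS q (q + 1) rfl ((φ.app q).app S.X₃ x) :=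
  congr($(φ.comm S hS q (q + 1) rfl) x)

theorem isIso_of_injective_surjective {X Y : AddCommGrpCat.{w}} (f : X ⟶ Y)
    (h₁ : Function.Injective f) (h₂ : Function.Surjective f) : IsIso f :=
  (ConcreteCategory.isIso_iff_bijective f).mpr ⟨h₁, h₂⟩

theorem map_f_injective_zero {S : ShortComplex C} (hS : S.ShortExact) (hT : T.ZeroMono) :
    Function.Injective ((T.F 0).map S.f) :=
  (AddCommGrpCat.mono_iff_injective _).mp (hT S hS)

theorem app_zero_injective (hT : T.ZeroMono) {A M : C} (i : A ⟶ M) [Mono i]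
    (hM : Function.Injective ((φ.app 0).app M)) : Function.Injective ((φ.app 0).app A) := by
  intro x y hxy
  apply map_f_injective_zero (seq_shortExact i) hT
  apply hM
  show (φ.app 0).app M ((T.F 0).map i x) = (φ.app 0).app M ((T.F 0).map i y)
  rw [app_natural, app_natural, hxy]

theorem app_zero_surjective (hT' : T'.ZeroMono) {A M : C} (i : A ⟶ M) [Mono i]
    (hM : Function.Surjective ((φ.app 0).app M))
    (hC : Function.Injective ((φ.app 0).app (cokernel i))) : Function.Surjective ((φ.app 0).app A) := by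
  intro y
  obtain ⟨x, hx⟩ := hM ((T'.F 0).map i y)
  have hz : (T.F 0).map (cokernel.π i) x = 0 := hC (by
    rw [app_natural, hx, map_zero, ← CategoryTheory.comp_apply, ← Functor.map_comp, cokernel.condition,
      Functor.map_zero]
    rfl)
  obtain ⟨a, ha⟩ := (ShortComplex.ab_exact_iff _).mp (T.exact₂ (seq i) (seq_shortExact i) 0) x hz
  refine ⟨a, map_f_injective_zero (seq_shortExact i) hT' ?_⟩
  show (T'.F 0).map i ((φ.app 0).app A a) = (T'.F 0).map i y
  rw [← app_natural, ← hx]
  exact congrArg _ ha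

theorem app_succ_injective {q : ℕ} {A : C}
    (h : ∀ α : (T.F (q + 1)).obj A, (φ.app (q + 1)).app A α = 0 → ∃ (M : C) (u : A ⟶ M), Mono u ∧
      (T.F (q + 1)).map u α = 0 ∧ Function.Surjective ((φ.app q).app M) ∧
      Function.Injective ((φ.app q).app (cokernel u))) :
    Function.Injective ((φ.app (q + 1)).app A) := by
  rw [injective_iff_map_eq_zero]
  intro α hα
  obtain ⟨M, u, hu, hαu, hM, hC⟩ := h α hα
  have hS := seq_shortExact u
  obtain ⟨β, hβ⟩ := (ShortComplex.ab_exact_iff _).mp (T.exact₁ (seq u) hS q (q + 1) rfl) α hαu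
  have hβ' : T.δ (seq u) hS q (q + 1) rfl β = α := hβ
  have h1 : T'.δ (seq u) hS q (q + 1) rfl ((φ.app q).app (cokernel u) β) = 0 := by
    rw [← app_δ φ (seq u) hS q β, hβ']; exact hα
  obtain ⟨c, hc⟩ := (ShortComplex.ab_exact_iff _).mp (T'.exact₃ (seq u) hS q (q + 1) rfl) _ h1
  obtain ⟨c', hc'⟩ := hM c
  have hβc : (T.F q).map (cokernel.π u) c' = β := hC (by
    rw [app_natural, hc']
    exact hc)
  rw [← hβ', ← hβc]
  exact congr($(T.comp_δ (seq u) hS q (q + 1) rfl) c')

theorem exists_preimage_of_killed {q : ℕ} {A M : C} (u : A ⟶ M) [Mono u]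
    (hC : Function.Surjective ((φ.app q).app (cokernel u))) (y : (T'.F (q + 1)).obj A)
    (hy : (T'.F (q + 1)).map u y = 0) : ∃ x, (φ.app (q + 1)).app A x = y := by
  have hS := seq_shortExact u
  obtain ⟨β, hβ⟩ := (ShortComplex.ab_exact_iff _).mp (T'.exact₁ (seq u) hS q (q + 1) rfl) y hy
  obtain ⟨b, hb⟩ := hC β
  exact ⟨T.δ (seq u) hS q (q + 1) rfl b, (app_δ φ (seq u) hS q b).trans
    ((congrArg _ hb).trans hβ)⟩

theorem app_succ_surjective {q : ℕ} {A M : C} (u : A ⟶ M) [Mono u]
    (hM : Function.Surjective ((φ.app (q + 1)).app M))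
    (hC : Function.Surjective ((φ.app q).app (cokernel u)))
    (hC' : Function.Injective ((φ.app (q + 1)).app (cokernel u))) :
    Function.Surjective ((φ.app (q + 1)).app A) := by
  intro y
  obtain ⟨x, hx⟩ := hM ((T'.F (q + 1)).map u y)
  have hz : (T.F (q + 1)).map (cokernel.π u) x = 0 := hC' (by
    rw [app_natural, hx, map_zero, ← CategoryTheory.comp_apply, ← Functor.map_comp, cokernel.condition,
      Functor.map_zero]
    rfl)
  obtain ⟨a, ha⟩ := (ShortComplex.ab_exact_iff _).mp (T.exact₂ (seq u) (seq_shortExact u) (q + 1)) x hz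
  have hy : (T'.F (q + 1)).map u (y - (φ.app (q + 1)).app A a) = 0 := by
    rw [map_sub, ← app_natural, ← hx, sub_eq_zero]
    exact (congrArg _ ha).symm
  obtain ⟨z, hz'⟩ := exists_preimage_of_killed φ u hC _ hy
  exact ⟨a + z, by rw [map_add, hz', add_sub_cancel]⟩

/-- Injectivity passes to filtered colimits. -/
theorem app_injective_of_isColimit {J : Type v} [SmallCategory J] [IsFiltered J] {K : J ⥤ C}
    {c : Cocone K} (hc : IsColimit c) (q : ℕ) [PreservesColimit K (T.F q)] [PreservesColimit K (T'.F q)]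
    (h : ∀ j, Function.Injective ((φ.app q).app (K.obj j))) : Function.Injective ((φ.app q).app c.pt) := by
  rw [injective_iff_map_eq_zero]
  intro α hα
  obtain ⟨j, x, hx⟩ := GrothLib.AbColim.exists_rep (isColimitOfPreserves (T.F q) hc) α
  have hx' : (T.F q).map (c.ι.app j) x = α := hx
  have h0 : ((T'.F q).mapCocone c).ι.app j ((φ.app q).app (K.obj j) x) = 0 := by
    show (T'.F q).map (c.ι.app j) ((φ.app q).app (K.obj j) x) = 0
    rw [← app_natural φ q (c.ι.app j) x, hx']
    exact hα
  obtain ⟨k, f, hf⟩ := GrothLib.AbColim.exists_map_eq_zero (isColimitOfPreserves (T'.F q) hc) _ h0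
  have hxk : (T.F q).map (K.map f) x = 0 := h k (by
    rw [app_natural φ q (K.map f) x, map_zero]
    exact hf)
  rw [← hx', ← c.w f, Functor.map_comp, CategoryTheory.comp_apply, hxk, map_zero]

/-- Surjectivity passes to filtered colimits. -/
theorem app_surjective_of_isColimit {J : Type v} [SmallCategory J] [IsFiltered J] {K : J ⥤ C}
    {c : Cocone K} (hc : IsColimit c) (q : ℕ) [PreservesColimit K (T'.F q)]
    (h : ∀ j, Function.Surjective ((φ.app q).app (K.obj j))) : Function.Surjective ((φ.app q).app c.pt) := by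
  intro y
  obtain ⟨j, z, hz⟩ := GrothLib.AbColim.exists_rep (isColimitOfPreserves (T'.F q) hc) y
  obtain ⟨x, hx⟩ := h j z
  refine ⟨(T.F q).map (c.ι.app j) x, ?_⟩
  rw [app_natural, hx]
  exact hz

theorem injective_of_iso (q : ℕ) {A : C} (h : IsIso ((φ.app q).app A)) :
    Function.Injective ((φ.app q).app A) := ((ConcreteCategory.isIso_iff_bijective _).mp h).1

theorem surjective_of_iso (q : ℕ) {A : C} (h : IsIso ((φ.app q).app A)) :
    Function.Surjective ((φ.app q).app A) := ((ConcreteCategory.isIso_iff_bijective _).mp h).2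

end GrothLib.DeltaF
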