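import Groth.Prelude.Def_DeltaF
import Mathlib.CategoryTheory.Abelian.Refinements
import Mathlib.CategoryTheory.Abelian.Exact
import Mathlib.CategoryTheory.Abelian.FunctorCategory
import Mathlib.CategoryTheory.Preadditive.Injective.Basic

/-!
Effaceable delta-functors are universal; comparison of effaceable delta-functors.
-/

set_option linter.style.haveILetI false
set_option linter.unusedSectionVars false

universe v u v' u'

open CategoryTheory CategoryTheory.Limits

namespace GrothLib.DeltaF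

open _root_.DeltaF

variable {A : Type u} [Category.{v} A] [Abelian A] {B : Type u'} [Category.{v'} B] [Abelian B]
variable (T T' : CohDeltaFunctor A B ℕ)

/-- The cokernel sequence of a monomorphism. -/
noncomputable abbrev seq {X Y : A} (u : X ⟶ Y) : ShortComplex A :=
  ShortComplex.mk u (cokernel.π u) (cokernel.condition u)

theorem seq_shortExact {X Y : A} (u : X ⟶ Y) [Mono u] : (seq u).ShortExact :=
  { exact := ShortComplex.exact_cokernel u
    mono_f := inferInstanceAs (Mono u)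
    epi_g := inferInstanceAs (Epi (cokernel.π u)) }

theorem seq_map {X X' Y Y' : A} (u : X ⟶ Y) (w : X' ⟶ Y') (f : X ⟶ X') (g : Y ⟶ Y') (h : f ≫ w = u ≫ g) :
    ∃ φ : seq u ⟶ seq w, φ.τ₁ = f ∧ φ.τ₂ = g :=
  ⟨ShortComplex.homMk f g (cokernel.desc u (g ≫ cokernel.π w)
    (by rw [← Category.assoc, ← h, Category.assoc, cokernel.condition, comp_zero])) h
    (by exact (cokernel.π_desc u _ _).symm), rfl, rfl⟩

variable {T T'}

theorem epi_δ {S : ShortComplex A} (hS : S.ShortExact) {n : ℕ} (h : (T.F (n + 1)).map S.f = 0) :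
    Epi (T.δ S hS n (n + 1) rfl) :=
  (ShortComplex.exact_iff_epi _ h).mp (T.exact₁ S hS n (n + 1) rfl)

/-- Two maps compatible with the connecting morphisms agree along a map of sequences. -/
theorem natural_of_δ {n : ℕ} (τ : T.F n ⟶ T'.F n) {S S' : ShortComplex A} (hS : S.ShortExact)
    (hS' : S'.ShortExact) (φ : S ⟶ S') (h0 : (T.F (n + 1)).map S.f = 0)
    (a : (T.F (n + 1)).obj S.X₁ ⟶ (T'.F (n + 1)).obj S.X₁)
    (a' : (T.F (n + 1)).obj S'.X₁ ⟶ (T'.F (n + 1)).obj S'.X₁)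
    (ha : T.δ S hS n (n + 1) rfl ≫ a = τ.app S.X₃ ≫ T'.δ S hS n (n + 1) rfl)
    (ha' : T.δ S' hS' n (n + 1) rfl ≫ a' = τ.app S'.X₃ ≫ T'.δ S' hS' n (n + 1) rfl) :
    (T.F (n + 1)).map φ.τ₁ ≫ a' = a ≫ (T'.F (n + 1)).map φ.τ₁ := by
  haveI := epi_δ hS h0
  rw [← cancel_epi (T.δ S hS n (n + 1) rfl), ← Category.assoc, ← T.δ_natural hS hS' φ n (n + 1) rfl,
    Category.assoc, ha', ← Category.assoc, τ.naturality, Category.assoc, T'.δ_natural hS hS' φ n (n + 1) rfl,
    ← Category.assoc, ← ha, Category.assoc]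

theorem existsUnique_next (hT : T.IsEffaceable) (n : ℕ) (τ : T.F n ⟶ T'.F n) :
    ∃! σ : T.F (n + 1) ⟶ T'.F (n + 1), ∀ (S : ShortComplex A) (hS : S.ShortExact),
      T.δ S hS n (n + 1) rfl ≫ σ.app S.X₁ = τ.app S.X₃ ≫ T'.δ S hS n (n + 1) rfl := by
  choose Y u hu h0 using hT n
  have hmk : ∀ X, ∃ a : (T.F (n + 1)).obj X ⟶ (T'.F (n + 1)).obj X,
      T.δ (seq (u X)) (haveI := hu X; seq_shortExact (u X)) n (n + 1) rfl ≫ a =
        τ.app _ ≫ T'.δ (seq (u X)) (haveI := hu X; seq_shortExact (u X)) n (n + 1) rfl := by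
    intro X
    haveI := hu X
    have hS := seq_shortExact (u X)
    haveI : Epi (ShortComplex.mk _ _ (T.comp_δ _ hS n (n + 1) rfl)).g := epi_δ hS (h0 X)
    exact ⟨(T.exact₃ _ hS n (n + 1) rfl).desc (τ.app _ ≫ T'.δ _ hS n (n + 1) rfl)
      (by rw [← Category.assoc]
          show ((T.F n).map (seq (u X)).g ≫ τ.app _) ≫ _ = 0
          rw [τ.naturality, Category.assoc, T'.comp_δ, comp_zero]),
      (T.exact₃ _ hS n (n + 1) rfl).g_desc _ _⟩
  choose a ha using hmk
  -- independence of the chosen monomorphism, and naturality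
  have key : ∀ {X X' : A} (f : X ⟶ X') {Z : A} (s : X ⟶ Z) [Mono s],
      (T.F (n + 1)).map s = 0 →
      ∀ b : (T.F (n + 1)).obj X ⟶ (T'.F (n + 1)).obj X,
      T.δ (seq s) (seq_shortExact s) n (n + 1) rfl ≫ b = τ.app _ ≫ T'.δ (seq s) (seq_shortExact s) n (n + 1) rfl →
      (T.F (n + 1)).map f ≫ a X' = b ≫ (T'.F (n + 1)).map f := by
    intro X X' f Z s _ hs b hb
    haveI := hu X'
    let w : X' ⟶ pushout s (f ≫ u X') := u X' ≫ pushout.inr s (f ≫ u X')
    haveI : Mono w := mono_comp _ _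
    have hw : (T.F (n + 1)).map w = 0 := by rw [Functor.map_comp, h0 X', zero_comp]
    obtain ⟨φ, hφ, -⟩ := seq_map s w f (pushout.inl _ _) (by
      rw [← Category.assoc, pushout.condition])
    obtain ⟨ψ, hψ, -⟩ := seq_map (u X') w (𝟙 X') (pushout.inr _ _) (Category.id_comp _)
    have hwS := seq_shortExact w
    haveI : Epi (ShortComplex.mk _ _ (T.comp_δ _ hwS n (n + 1) rfl)).g := epi_δ hwS hw
    let c := (T.exact₃ _ hwS n (n + 1) rfl).desc (τ.app _ ≫ T'.δ _ hwS n (n + 1) rfl)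
      (by rw [← Category.assoc]
          show ((T.F n).map (seq w).g ≫ τ.app _) ≫ _ = 0
          rw [τ.naturality, Category.assoc, T'.comp_δ, comp_zero])
    have hc : T.δ (seq w) hwS n (n + 1) rfl ≫ c = τ.app _ ≫ T'.δ (seq w) hwS n (n + 1) rfl :=
      (T.exact₃ _ hwS n (n + 1) rfl).g_desc _ _
    have e₁ := natural_of_δ τ (seq_shortExact s) hwS φ hs b c hb hc
    have e₂ := natural_of_δ τ (seq_shortExact (u X')) hwS ψ (h0 X') (a X') c (ha X') hc
    rw [hφ] at e₁
    rw [hψ] at e₂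
    have e₃ : a X' = c := by simpa using e₂.symm
    rw [e₃]; exact e₁
  refine ⟨{ app := a, naturality := fun X X' f => ?_ }, fun S hS => ?_, fun σ hσ => ?_⟩
  · haveI := hu X; exact key f (u X) (h0 X) (a X) (ha X)
  · haveI := hS.mono_f
    haveI := hu S.X₁
    let w : S.X₁ ⟶ pushout S.f (u S.X₁) := S.f ≫ pushout.inl _ _
    have hw' : w = u S.X₁ ≫ pushout.inr _ _ := pushout.condition
    haveI : Mono w := by rw [hw']; exact mono_comp _ _
    have hw : (T.F (n + 1)).map w = 0 := by rw [hw', Functor.map_comp, h0, zero_comp]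
    have hwS := seq_shortExact w
    haveI : Epi (ShortComplex.mk _ _ (T.comp_δ _ hwS n (n + 1) rfl)).g := epi_δ hwS hw
    let c := (T.exact₃ _ hwS n (n + 1) rfl).desc (τ.app _ ≫ T'.δ _ hwS n (n + 1) rfl)
      (by rw [← Category.assoc]
          show ((T.F n).map (seq w).g ≫ τ.app _) ≫ _ = 0
          rw [τ.naturality, Category.assoc, T'.comp_δ, comp_zero])
    have hc : T.δ (seq w) hwS n (n + 1) rfl ≫ c = τ.app _ ≫ T'.δ (seq w) hwS n (n + 1) rfl :=
      (T.exact₃ _ hwS n (n + 1) rfl).g_desc _ _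
    have e₀ : a S.X₁ = c := by
      simpa using key (𝟙 S.X₁) w hw c hc
    haveI := hS.epi_g
    let φ : S ⟶ seq w := ShortComplex.homMk (𝟙 S.X₁) (pushout.inl _ _)
      ((hS.exact).desc (pushout.inl S.f (u S.X₁) ≫ cokernel.π w)
        (by rw [← Category.assoc]; exact cokernel.condition w)) (Category.id_comp _)
      (hS.exact.g_desc _ _).symm
    show T.δ S hS n (n + 1) rfl ≫ a S.X₁ = _
    rw [e₀]
    have n₁ := T.δ_natural hS hwS φ n (n + 1) rfl
    have n₂ := T'.δ_natural hS hwS φ n (n + 1) rfl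
    simp only [φ, ShortComplex.homMk_τ₁, CategoryTheory.Functor.map_id, Category.comp_id] at n₁ n₂
    rw [← n₁, Category.assoc, hc, ← Category.assoc, τ.naturality, Category.assoc, n₂]
  · ext X
    haveI := hu X
    haveI := epi_δ (seq_shortExact (u X)) (h0 X)
    rw [← cancel_epi (T.δ (seq (u X)) (seq_shortExact (u X)) n (n + 1) rfl)]
    exact (hσ _ _).trans (ha X).symm

theorem isUniversal_of_isEffaceable (hT : T.IsEffaceable) : T.IsUniversal := by
  intro T' t
  choose next hnext huniq using fun n τ => existsUnique_next (T' := T') hT n τ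
  let app : ∀ n, T.F n ⟶ T'.F n := fun n => Nat.rec t (fun k τ => next k τ) n
  refine ⟨{ app := app, comm := fun S hS n₀ n₁ h => ?_ }, rfl, fun τ hτ => ?_⟩
  · change n₀ + 1 = n₁ at h
    subst h
    exact hnext n₀ (app n₀) S hS
  · apply CohDeltaFunctor.hom_ext
    intro n
    induction n with
    | zero => exact hτ
    | succ k ih =>
      refine huniq k (app k) (τ.app (k + 1)) fun S hS => ?_
      have ih' : τ.app k = app k := ih
      rw [← ih']
      exact τ.comm S hS k (k + 1) rfl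

theorem existsUnique_iso (hT : T.IsUniversal) (hT' : T'.IsUniversal) (e : T.F 0 ≅ T'.F 0) :
    ∃! φ : T ≅ T', φ.hom.app 0 = e.hom := by
  obtain ⟨a, ha, hau⟩ := hT T' e.hom
  obtain ⟨b, hb, -⟩ := hT' T e.inv
  obtain ⟨_, _, hidT⟩ := hT T (𝟙 _)
  obtain ⟨_, _, hidT'⟩ := hT' T' (𝟙 _)
  have ha' : a.app 0 = e.hom := ha
  have hb' : b.app 0 = e.inv := hb
  refine ⟨⟨a, b, ?_, ?_⟩, ha, fun φ hφ => Iso.ext (hau φ.hom hφ)⟩
  · exact (hidT (a ≫ b) (by simp [ha', hb'])).trans (hidT (𝟙 T) rfl).symm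
  · exact (hidT' (b ≫ a) (by simp [ha', hb'])).trans (hidT' (𝟙 T') rfl).symm

theorem isEffaceable_iff [EnoughInjectives A] :
    T.IsEffaceable ↔ ∀ (n : ℕ) (I : A), Injective I → IsZero ((T.F (n + 1)).obj I) := by
  refine ⟨fun hT n I hI => ?_, fun h n X => ⟨Injective.under X, Injective.ι X, inferInstance,
    (h n _ inferInstance).eq_of_tgt _ _⟩⟩
  obtain ⟨Y, u, hu, h0⟩ := hT n I
  haveI := hI
  haveI := hu
  rw [IsZero.iff_id_eq_zero, ← (T.F (n + 1)).map_id, ← Injective.comp_factorThru (𝟙 I) u, Functor.map_comp,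
    h0, zero_comp]

variable (φ : T ⟶ T')

theorem mono_succ (hT : T.IsEffaceable) {i : ℕ} (hi : IsIso (φ.app i)) : Mono (φ.app (i + 1)) := by
  haveI : ∀ X, Mono ((φ.app (i + 1)).app X) := fun X => by
    obtain ⟨Y, u, hu, h0⟩ := hT i X
    haveI := hu
    have hS := seq_shortExact u
    haveI := epi_δ hS h0
    rw [Preadditive.mono_iff_cancel_zero]
    intro Z a ha
    obtain ⟨Z₁, π₁, hπ₁, b, hb⟩ := surjective_up_to_refinements_of_epi (T.δ (seq u) hS i (i + 1) rfl) a
    have h1 : (b ≫ (φ.app i).app _) ≫ T'.δ (seq u) hS i (i + 1) rfl = 0 := by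
      rw [Category.assoc, ← φ.comm (seq u) hS i (i + 1) rfl, ← Category.assoc, ← hb, Category.assoc]
      show π₁ ≫ a ≫ (φ.app (i + 1)).app X = 0
      rw [ha, comp_zero]
    obtain ⟨Z₂, π₂, hπ₂, c, hc⟩ := (T'.exact₃ (seq u) hS i (i + 1) rfl).exact_up_to_refinements _ h1
    have hc' : π₂ ≫ b ≫ (φ.app i).app _ = (show Z₂ ⟶ (T'.F i).obj (seq u).X₂ from c) ≫ (T'.F i).map (seq u).g := hc
    have hc'' : π₂ ≫ b = ((show Z₂ ⟶ (T'.F i).obj (seq u).X₂ from c) ≫ inv ((φ.app i).app _)) ≫ (T.F i).map (seq u).g := by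
      rw [← cancel_mono ((φ.app i).app (seq u).X₃), Category.assoc, hc', Category.assoc, Category.assoc,
        (φ.app i).naturality, IsIso.inv_hom_id_assoc]
    haveI := hπ₁; haveI := hπ₂
    rw [← cancel_epi π₁, ← cancel_epi π₂, hb, ← Category.assoc, hc'', Category.assoc, T.comp_δ]
    simp
  exact NatTrans.mono_of_mono_app _

theorem epi_succ (hT : T.IsEffaceable) {i : ℕ} (hi : IsIso (φ.app i))
    (hT' : ∀ X : A, ∃ (Y : A) (u : X ⟶ Y), Mono u ∧ (T'.F (i + 1)).map u = 0) : Epi (φ.app (i + 1)) := by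
  haveI : ∀ X, Epi ((φ.app (i + 1)).app X) := fun X => by
    obtain ⟨Y, w, hw, h0'⟩ := hT' X
    haveI := hw
    have hS := seq_shortExact w
    haveI := epi_δ hS h0'
    haveI : Epi (T.δ (seq w) hS i (i + 1) rfl ≫ (φ.app (i + 1)).app (seq w).X₁) := by
      rw [φ.comm (seq w) hS i (i + 1) rfl]
      exact epi_comp _ _
    exact epi_of_epi (T.δ (seq w) hS i (i + 1) rfl) ((φ.app (i + 1)).app (seq w).X₁)
  exact NatTrans.epi_of_epi_app _

theorem compare (hT : T.IsEffaceable) (n : ℕ) :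
    ((∀ i : ℕ, i ≤ n → IsIso (φ.app i)) ∧ Mono (φ.app (n + 1)) ↔
      (Mono (φ.app 0) ∧ ∀ i : ℕ, i ≤ n → Epi (φ.app i))) ∧
    ((∀ i : ℕ, i ≤ n → IsIso (φ.app i)) ∧ Mono (φ.app (n + 1)) ↔
      (IsIso (φ.app 0) ∧ ∀ i : ℕ, 0 < i → i ≤ n → ∀ X : A, ∃ (Y : A) (u : X ⟶ Y), Mono u ∧ (T'.F i).map u = 0)) := by
  have climb : IsIso (φ.app 0) → (∀ i, i + 1 ≤ n → IsIso (φ.app i) → Epi (φ.app (i + 1))) →
      (∀ i : ℕ, i ≤ n → IsIso (φ.app i)) ∧ Mono (φ.app (n + 1)) := by
    intro h0 he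
    have : ∀ i, i ≤ n → IsIso (φ.app i) := by
      intro i
      induction i with
      | zero => exact fun _ => h0
      | succ k ih =>
        intro hk
        have hk' := ih (Nat.le_of_succ_le hk)
        haveI := mono_succ φ hT hk'
        haveI := he k hk hk'
        exact isIso_of_mono_of_epi _
    exact ⟨this, mono_succ φ hT (this n le_rfl)⟩
  constructor
  · constructor
    · rintro ⟨h, -⟩
      exact ⟨haveI := h 0 (Nat.zero_le _); inferInstance, fun i hi => haveI := h i hi; inferInstance⟩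
    · rintro ⟨hm, he⟩
      haveI := hm
      haveI := he 0 (Nat.zero_le _)
      exact climb (isIso_of_mono_of_epi _) fun i hi _ => he (i + 1) hi
  · constructor
    · rintro ⟨h, -⟩
      refine ⟨h 0 (Nat.zero_le _), fun i hi hi' X => ?_⟩
      obtain ⟨k, rfl⟩ : ∃ k, i = k + 1 := ⟨i - 1, by omega⟩
      haveI := h (k + 1) hi'
      obtain ⟨Y, u, hu, h0⟩ := hT k X
      refine ⟨Y, u, hu, ?_⟩
      rw [← cancel_epi ((φ.app (k + 1)).app X), ← (φ.app (k + 1)).naturality, h0, zero_comp, comp_zero]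
    · rintro ⟨h0, he⟩
      exact climb h0 fun i hi hiso => epi_succ φ hT hiso (he (i + 1) (Nat.succ_pos i) hi)

end GrothLib.DeltaF
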